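import Mathlib.Tactic.Linarith
import Mathlib.Tactic.Ring
import Mathlib.Tactic.LinearCombination
import Mathlib.Data.Int.GCD
import Mathlib.RingTheory.Int.Basic
import Mathlib.Tactic.IntervalCases

/-!
The arithmetic end of the semidihedral case with cyclic odd Sylow subgroups: the two equations of
the involution class are incompatible with an index prime to the order of the centralizer.
-/

set_option autoImplicit false

namespace CfsgLib.Recog.SemiDihOrder

/-- `R * R ∣ s` from the equation at the non-split part. -/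
theorem sq_dvd {R n M o u' Q s : ℤ} (hR0 : R ≠ 0) (hn : IsCoprime R (M * n))
    (h : s * s * (M * n) = R * R * R * (o * u' * (Q * s - R))) : R * R ∣ s := by
  have h1 : R * R ∣ s * s :=
    ((hn.mul_left hn).dvd_of_dvd_mul_right ⟨R * (o * u' * (Q * s - R)), by rw [h]; ring⟩)
  obtain ⟨t, rfl⟩ : R ∣ s := by
    rw [← sq, ← sq] at h1
    exact (Int.pow_dvd_pow_iff two_ne_zero).1 h1
  have h' : t * t * (M * n) = R * R * (o * u' * (Q * t - 1)) := by
    apply mul_left_cancel₀ (mul_ne_zero hR0 hR0)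
    linear_combination h
  have h2 : R * R ∣ t * t :=
    (hn.mul_left hn).dvd_of_dvd_mul_right ⟨o * u' * (Q * t - 1), by rw [h']⟩
  rw [← sq, ← sq] at h2
  exact mul_dvd_mul_left R ((Int.pow_dvd_pow_iff two_ne_zero).1 h2)

/-- The signed form: `Q` is a prime up to sign, `4 ∣ Q + 1`. -/
theorem signed_cases {Q u w M o : ℤ} (hQ : Prime Q) (h4 : (4 : ℤ) ∣ Q + 1) (hR0 : Q + 1 ≠ 0)
    (hMQ : ¬ Q ∣ M) (hMR : IsCoprime (Q + 1) M) (hoQ : ¬ Q ∣ o)
    (heq : M * (Q - 1) * ((u + Q) * (u + Q)) = 2 * Q * ((Q + 1) * (Q + 1) * (Q + 1)) * o * (u * (u - 1)))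
    (hkey : (u - Q * Q) * (w - Q * Q) = Q * Q * (Q * Q - 1)) :
    ∃ k : ℤ, u = Q * ((Q + 1) * (Q + 1) * k - 1) ∧ (Q + 1) * k - 1 ∣ Q - 1 := by
  obtain ⟨c, hc⟩ := h4
  have hQ1 : ¬ Q ∣ Q - 1 := fun h => hQ.not_unit (isUnit_of_dvd_one (by
    simpa using dvd_sub (dvd_refl Q) h))
  -- the prime divides `u`
  obtain ⟨u', rfl⟩ : Q ∣ u := by
    have h : Q ∣ M * (Q - 1) * ((u + Q) * (u + Q)) :=
      ⟨2 * ((Q + 1) * (Q + 1) * (Q + 1)) * o * (u * (u - 1)), by rw [heq]; ring⟩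
    rcases hQ.dvd_or_dvd h with h | h
    · exact absurd h fun h => (hQ.dvd_or_dvd h).elim hMQ hQ1
    · have h' : Q ∣ u + Q := (hQ.dvd_or_dvd h).elim id id
      simpa using dvd_sub h' (dvd_refl Q)
  set s := u' + 1 with hs
  have hQ0 : Q ≠ 0 := hQ.ne_zero
  have heq' : M * (Q - 1) * (s * s) =
      2 * ((Q + 1) * (Q + 1) * (Q + 1)) * o * (u' * (Q * u' - 1)) := by
    apply mul_left_cancel₀ (mul_ne_zero hQ0 hQ0)
    rw [hs]
    linear_combination heq
  have hu' : ¬ Q ∣ u' := fun ⟨v, hv⟩ => by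
    have h : Q ∣ M * (Q - 1) * (s * s) :=
      ⟨2 * ((Q + 1) * (Q + 1) * (Q + 1)) * o * (v * (Q * u' - 1)), by rw [heq', hv]; ring⟩
    rcases hQ.dvd_or_dvd h with h | h
    · exact (hQ.dvd_or_dvd h).elim hMQ hQ1
    · have h' : Q ∣ s := (hQ.dvd_or_dvd h).elim id id
      exact hQ.not_unit (isUnit_of_dvd_one (by
        simpa [hs, hv] using dvd_sub h' (Dvd.intro v rfl : Q ∣ Q * v)))
  -- the key equation bounds `u'`
  have hdvd : u' - Q ∣ Q * Q - 1 := by
    have h : u' - Q ∣ Q * (Q * Q - 1) := ⟨w - Q * Q, by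
      apply mul_left_cancel₀ hQ0
      linear_combination -hkey⟩
    have hcop : IsCoprime (u' - Q) Q := by
      refine ((hQ.coprime_iff_not_dvd).2 fun h' => hu' ?_).symm
      simpa using dvd_add h' (dvd_refl Q)
    exact hcop.dvd_of_dvd_mul_left h
  -- the non-split part
  have hn : IsCoprime (Q + 1) (M * (2 * c - 1)) :=
    hMR.mul_right ⟨c, -(2 * c + 1), by rw [hc]; ring⟩
  obtain ⟨k, hk⟩ := sq_dvd hR0 hn (s := s) (o := o) (u' := u') (Q := Q) (by
    apply mul_left_cancel₀ (two_ne_zero' ℤ)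
    rw [hs] at heq' ⊢
    linear_combination heq' - (u' + 1) * (u' + 1) * M * hc)
  refine ⟨k, by rw [← hk, hs]; ring, ?_⟩
  rw [show u' - Q = (Q + 1) * ((Q + 1) * k - 1) by linear_combination hk,
    show Q * Q - 1 = (Q + 1) * (Q - 1) by ring] at hdvd
  exact (mul_dvd_mul_iff_left hR0).1 hdvd

/-- **The semidihedral equations have no solution with an index prime to the centralizer.** Here
`Q` is `q` or `-q`, congruent to `-1` modulo 4, `M` the index, `o` the order of the odd core. -/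
theorem no_solution {q : ℕ} (hq : q.Prime) (h5 : 5 ≤ q) {Q u w : ℤ}
    (hQ : (Q = (q : ℤ) ∧ q % 4 = 3) ∨ (Q = -(q : ℤ) ∧ q % 4 = 1)) {M o N : ℕ}
    (hN : N = M * (2 * q * (q * q - 1) * o)) (ho : 0 < o) (hM : 0 < M)
    (hMq : ¬ q ∣ M) (hMR : IsCoprime (Q + 1) (M : ℤ)) (hoq : ¬ q ∣ o) (hMo : M.Coprime o)
    (heq : (N : ℤ) * ((u + Q) * (u + Q)) = 4 * Q ^ 2 * (Q + 1) ^ 4 * (o : ℤ) ^ 2 * (u * (u - 1)))
    (hkey : (u - Q * Q) * (w - Q * Q) = Q * Q * (Q * Q - 1))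
    (hsq : 1 + u ^ 2 + (u - 1) ^ 2 + w ^ 2 + (1 - u - w) ^ 2 ≤ (N : ℤ)) : False := by
  have hqp : Prime (q : ℤ) := Nat.prime_iff_prime_int.1 hq
  have hq0 : (q : ℤ) ≠ 0 := hqp.ne_zero
  have hR0 : Q + 1 ≠ 0 := by
    rcases hQ with ⟨rfl, -⟩ | ⟨rfl, -⟩ <;> omega
  have h4 : (4 : ℤ) ∣ Q + 1 := by
    rcases hQ with ⟨rfl, h⟩ | ⟨rfl, h⟩ <;> omega
  have hQp : Prime Q := by
    rcases hQ with ⟨rfl, -⟩ | ⟨rfl, -⟩
    · exact hqp
    · exact Int.prime_iff_natAbs_prime.2 (by simpa using hq)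
  have hdvd : ∀ n : ℕ, Q ∣ (n : ℤ) → q ∣ n := fun n h => by
    rcases hQ with ⟨rfl, -⟩ | ⟨rfl, -⟩
    · exact Int.natCast_dvd_natCast.1 h
    · exact Int.natCast_dvd_natCast.1 (neg_dvd.1 h)
  -- the equation of the index
  obtain ⟨σ, hσ, hσQ⟩ : ∃ σ : ℤ, (σ = 1 ∨ σ = -1) ∧ (q : ℤ) = σ * Q := by
    rcases hQ with ⟨rfl, -⟩ | ⟨rfl, -⟩
    · exact ⟨1, Or.inl rfl, (one_mul _).symm⟩
    · exact ⟨-1, Or.inr rfl, by ring⟩
  have hσ2 : σ * σ = 1 := by rcases hσ with rfl | rfl <;> norm_num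
  have hNz : (N : ℤ) = σ * (M : ℤ) * (2 * Q * (Q * Q - 1) * o) := by
    have h1 : (1 : ℕ) ≤ q * q := Nat.one_le_iff_ne_zero.2 (mul_ne_zero hq.ne_zero hq.ne_zero)
    rw [hN, Nat.cast_mul, Nat.cast_mul, Nat.cast_mul, Nat.cast_mul, Nat.cast_sub h1, Nat.cast_mul,
      Nat.cast_ofNat, Nat.cast_one, hσQ]
    linear_combination (M : ℤ) * (2 * σ * Q * Q * Q * o) * hσ2
  have hMσ : ¬ Q ∣ σ * (M : ℤ) := fun h => hMq (hdvd M (by
    rcases hσ with rfl | rfl <;> simpa using h))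
  have hcopσ : IsCoprime (Q + 1) (σ * (M : ℤ)) := by
    rcases hσ with rfl | rfl
    · simpa using hMR
    · simpa using hMR.neg_right
  have heq' : σ * (M : ℤ) * (Q - 1) * ((u + Q) * (u + Q)) =
      2 * Q * ((Q + 1) * (Q + 1) * (Q + 1)) * o * (u * (u - 1)) := by
    apply mul_left_cancel₀ (show (2 : ℤ) * Q * (Q + 1) * o ≠ 0 from
      mul_ne_zero (mul_ne_zero (mul_ne_zero two_ne_zero hQp.ne_zero) hR0) (by omega))
    rw [hNz] at heq
    linear_combination heq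
  obtain ⟨k, hu, hk⟩ :=
    signed_cases hQp h4 hR0 hMσ hcopσ (fun h => hoq (hdvd o h)) heq' hkey
  rcases eq_or_ne k 0 with rfl | hk0
  · -- the degenerate solution
    rw [mul_zero, zero_sub, mul_neg, mul_one] at hu
    subst hu
    have h : (0 : ℤ) = 4 * Q ^ 2 * (Q + 1) ^ 4 * (o : ℤ) ^ 2 * (Q * (Q + 1)) := by
      linear_combination heq
    exact mul_ne_zero (mul_ne_zero (mul_ne_zero (mul_ne_zero (by norm_num)
      (pow_ne_zero 2 hQp.ne_zero)) (pow_ne_zero 4 hR0)) (pow_ne_zero 2 (by omega)))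
      (mul_ne_zero hQp.ne_zero hR0) h.symm
  have hb := Int.le_of_dvd (abs_pos.2 (show Q - 1 ≠ 0 by rcases hQ with ⟨rfl, -⟩ | ⟨rfl, -⟩ <;> omega))
    ((dvd_abs _ _).2 hk)
  have hb' := Int.le_of_dvd (abs_pos.2 (show Q - 1 ≠ 0 by rcases hQ with ⟨rfl, -⟩ | ⟨rfl, -⟩ <;> omega))
    ((dvd_abs _ _).2 (neg_dvd.2 hk))
  rcases hQ with ⟨rfl, -⟩ | ⟨rfl, hmod⟩
  · -- `q` congruent to 3 modulo 4
    rw [abs_of_nonneg (show (0 : ℤ) ≤ (q : ℤ) - 1 by omega)] at hb hb'
    rcases lt_or_gt_of_ne hk0 with h | h <;> nlinarith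
  · -- `q` congruent to 1 modulo 4
    rw [abs_of_nonpos (show -(q : ℤ) - 1 ≤ 0 by omega)] at hb hb'
    have h5' : (5 : ℤ) ≤ q := by exact_mod_cast h5
    have hk2 : -2 ≤ k ∧ k ≤ 2 := by
      constructor <;> nlinarith
    obtain ⟨d, hd⟩ := hk
    obtain ⟨hl, hh⟩ := hk2
    interval_cases k
    · -- `k = -2`
      rcases lt_trichotomy d (-1) with h | h | h <;> nlinarith
    · -- `k = -1`
      have hd2 : -4 ≤ d ∧ d ≤ 0 := by constructor <;> nlinarith
      obtain ⟨hl', hh'⟩ := hd2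
      interval_cases d <;> try omega
      all_goals
        obtain rfl : q = 5 := by omega
        push_cast at hu hkey heq hsq hNz
        norm_num at hu
        subst hu
        have hw : w = 35 := by linarith
        subst hw
        have hM119 : (M : ℤ) = 119 * o := by
          have hσ' : σ = -1 := by rcases hσ with rfl | rfl <;> push_cast at hσQ <;> omega
          subst hσ'
          norm_num at heq'
          linarith
        have ho1 : o = 1 := by
          have : M = 119 * o := by exact_mod_cast hM119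
          exact hMo.symm.eq_one_of_dvd ⟨119, by rw [this]; ring⟩
        subst ho1
        norm_num at hsq hNz hM119
        linarith
    · exact absurd rfl hk0
    · -- `k = 1`
      rcases lt_trichotomy d 1 with h | h | h <;> nlinarith
    · -- `k = 2`
      rcases lt_trichotomy d 1 with h | h | h <;> nlinarith

end CfsgLib.Recog.SemiDihOrder
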